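import Groth.Agent.Lib.Herbrand26.Apps
import Mathlib.RingTheory.OrderOfVanishing.Basic
import Mathlib.RingTheory.Ideal.AssociatedPrime.Finiteness
import Mathlib.Algebra.Module.LocalizedModule.Exact

/-! # Multiplication by an element on a one dimensional module -/

set_option autoImplicit false
universe u v

open CycAlg Pointwise

namespace Groth.Agent.Herbrand26

variable {R : Type u} [CommRing R]

/-- The length of the localisation at a prime. -/
noncomputable def locLen (p : PrimeSpectrum R) (N : Type u) [AddCommGroup N] [Module R N] : ℕ∞ :=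
  Module.length (Localization.AtPrime p.asIdeal) (LocalizedModule p.asIdeal.primeCompl N)

theorem locLen_add {N₁ N₂ N₃ : Type u} [AddCommGroup N₁] [Module R N₁] [AddCommGroup N₂] [Module R N₂]
    [AddCommGroup N₃] [Module R N₃] (p : PrimeSpectrum R) (f : N₁ →ₗ[R] N₂) (g : N₂ →ₗ[R] N₃)
    (hf : Function.Injective f) (hg : Function.Surjective g) (hfg : Function.Exact f g) :
    locLen p N₂ = locLen p N₁ + locLen p N₃ :=
  Module.length_eq_add_of_exact (LocalizedModule.map p.asIdeal.primeCompl f)
    (LocalizedModule.map p.asIdeal.primeCompl g) (LocalizedModule.map_injective _ f hf)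
    (LocalizedModule.map_surjective _ g hg) (LocalizedModule.map_exact _ f g hfg)

theorem locLen_eq_zero {N : Type u} [AddCommGroup N] [Module R N] {p : PrimeSpectrum R}
    (h : p ∉ Module.support R N) : locLen p N = 0 := by
  rw [Module.notMem_support_iff] at h
  exact Module.length_eq_zero

theorem locLen_quotient_self (q : PrimeSpectrum R) : locLen q (R ⧸ q.asIdeal) = 1 := by
  haveI : IsSimpleModule (Localization.AtPrime q.asIdeal)
      (LocalizedModule q.asIdeal.primeCompl (R ⧸ q.asIdeal)) := by
    rw [isSimpleModule_iff_toSpanSingleton_surjective]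
    refine ⟨Module.mem_support_iff.1 (Module.mem_support_iff_exists_annihilator.2
      ⟨Ideal.Quotient.mk _ 1, fun r hr => ?_⟩), fun z hz y => ?_⟩
    · rw [Submodule.mem_annihilator_span_singleton] at hr
      rw [Algebra.smul_def, map_one, mul_one] at hr
      exact Ideal.Quotient.eq_zero_iff_mem.1 hr
    induction z using LocalizedModule.induction_on with
    | _ m s =>
      induction y using LocalizedModule.induction_on with
      | _ n t =>
        obtain ⟨m, rfl⟩ := Ideal.Quotient.mk_surjective m
        obtain ⟨n, rfl⟩ := Ideal.Quotient.mk_surjective n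
        have hm : m ∈ q.asIdeal.primeCompl := fun hm => hz (by
          rw [show (Ideal.Quotient.mk q.asIdeal m) = 0 from Ideal.Quotient.eq_zero_iff_mem.2 hm,
            LocalizedModule.zero_mk])
        refine ⟨Localization.mk (n * (s : R)) (⟨m, hm⟩ * t), ?_⟩
        rw [LinearMap.toSpanSingleton_apply, LocalizedModule.mk_smul_mk, LocalizedModule.mk_eq]
        refine ⟨1, ?_⟩
        simp only [one_smul, Submonoid.smul_def, Submonoid.coe_mul, Algebra.smul_def, Ideal.Quotient.algebraMap_eq,
          ← map_mul]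
        congr 1
        ring
  exact Module.length_eq_one _ _

variable [IsNoetherianRing R] [IsLocalRing R]

theorem isFiniteLength_of_support_subset {M : Type u} [AddCommGroup M] [Module R M] [Module.Finite R M]
    (h : ∀ p ∈ Module.support R M, p.asIdeal = IsLocalRing.maximalIdeal R) : Module.length R M ≠ ⊤ :=
  Module.length_ne_top_iff.2 (HilbSam.isFiniteLength_of_support fun p hp => by
    rw [h p hp]; exact IsLocalRing.maximalIdeal.isMaximal R)

/-- The basic length formula for multiplication by an element. -/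
theorem length_quot_eq (M : Type u) [AddCommGroup M] [Module R M] [Module.Finite R M] (x : R)
    (S : Finset (PrimeSpectrum R))
    (hS : ∀ p, p ∈ S ↔ p ∈ Module.support R M ∧ p.asIdeal ≠ IsLocalRing.maximalIdeal R)
    (hx : ∀ p ∈ S, x ∉ p.asIdeal) (hmin : ∀ p ∈ S, ∀ q ∈ Module.support R M, q ≤ p → q = p) :
    Module.length R (M ⧸ x • (⊤ : Submodule R M)) = Module.length R (LinearMap.ker (LinearMap.lsmul R M x)) +
      ∑ p ∈ S, Ring.ord (R ⧸ p.asIdeal) (Ideal.Quotient.mk p.asIdeal x) * locLen p M := by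
  have hfinA : ∀ (N : Type u) [AddCommGroup N] [Module R N] [Module.Finite R N],
      Module.support R N ⊆ Module.support R M →
      Module.length R (N ⧸ x • (⊤ : Submodule R N)) ≠ ⊤ ∧
        Module.length R (LinearMap.ker (LinearMap.lsmul R N x)) ≠ ⊤ := by
    intro N _ _ _ hN
    haveI : IsNoetherian R N := isNoetherian_of_isNoetherianRing_of_finite R N
    have key : ∀ (Q : Type u) [AddCommGroup Q] [Module R Q] [Module.Finite R Q],
        Module.support R Q ⊆ Module.support R N → x ∈ Module.annihilator R Q → Module.length R Q ≠ ⊤ := by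
      intro Q _ _ _ hs hann
      refine isFiniteLength_of_support_subset fun p hp => by_contra fun hne => ?_
      refine hx p ((hS p).2 ⟨hN (hs hp), hne⟩) ?_
      rw [Module.support_eq_zeroLocus, PrimeSpectrum.mem_zeroLocus] at hp
      exact hp hann
    refine ⟨key _ (Module.support_subset_of_surjective _ (Submodule.mkQ_surjective _)) ?_,
      key _ (Module.support_subset_of_injective _ (Submodule.subtype_injective _)) ?_⟩
    · rw [Module.mem_annihilator]
      intro z
      obtain ⟨y, rfl⟩ := Submodule.Quotient.mk_surjective _ z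
      rw [← Submodule.Quotient.mk_smul, Submodule.Quotient.mk_eq_zero]
      exact Submodule.smul_mem_pointwise_smul y x ⊤ trivial
    · rw [Module.mem_annihilator]
      rintro ⟨z, hz⟩
      exact Subtype.ext hz
  haveI : IsNoetherian R M := isNoetherian_of_isNoetherianRing_of_finite R M
  suffices H : ∀ (N : Type u) [AddCommGroup N] [Module R N] [Module.Finite R N],
      Module.support R N ⊆ Module.support R M →
      Module.length R (N ⧸ x • (⊤ : Submodule R N)) = Module.length R (LinearMap.ker (LinearMap.lsmul R N x)) +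
        ∑ p ∈ S, Ring.ord (R ⧸ p.asIdeal) (Ideal.Quotient.mk p.asIdeal x) * locLen p N from
    H M subset_rfl
  intro N _ _ i
  induction i using IsNoetherianRing.induction_on_isQuotientEquivQuotientPrime R with
  | subsingleton N =>
    intro _
    rw [Module.length_eq_zero, Module.length_eq_zero, zero_add]
    refine (Finset.sum_eq_zero fun p _ => ?_).symm
    rw [locLen_eq_zero (Module.notMem_support_iff.2 inferInstance), mul_zero]
  | quotient N q e =>
    intro hN
    have hsup : ∀ p, p ∈ Module.support R N ↔ q.asIdeal ≤ p.asIdeal := fun p => by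
      rw [LinearEquiv.support_eq e, Module.support_eq_zeroLocus, Ideal.annihilator_quotient, PrimeSpectrum.mem_zeroLocus]
      rfl
    have hqM : q ∈ Module.support R M := hN ((hsup q).2 le_rfl)
    have hloc : ∀ p ∈ S, p ≠ q → locLen p N = 0 := fun p hp hpq => locLen_eq_zero fun h =>
      hpq (hmin p hp q hqM ((PrimeSpectrum.asIdeal_le_asIdeal _ _).1 ((hsup p).1 h))).symm
    have hlenEq : Module.length R (N ⧸ x • (⊤ : Submodule R N)) =
        Module.length R (R ⧸ (q.asIdeal ⊔ Ideal.span {x})) := by
      let g : N →ₗ[R] R ⧸ (q.asIdeal ⊔ Ideal.span {x}) :=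
        (Submodule.factor (le_sup_left : q.asIdeal ≤ q.asIdeal ⊔ Ideal.span {x})).comp e.toLinearMap
      have hg : Function.Surjective g := (Submodule.factor_surjective (le_sup_left : q.asIdeal ≤ q.asIdeal ⊔ Ideal.span {x})).comp e.surjective
      have hk : LinearMap.ker g = x • (⊤ : Submodule R N) := by
        ext n
        obtain ⟨r, hr⟩ := Ideal.Quotient.mk_surjective (e n)
        have hgn : g n = Ideal.Quotient.mk _ r := by
          show Submodule.factor (le_sup_left : q.asIdeal ≤ q.asIdeal ⊔ Ideal.span {x}) (e n) = _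
          rw [← hr]; rfl
        rw [LinearMap.mem_ker, hgn, Ideal.Quotient.eq_zero_iff_mem, Submodule.mem_smul_pointwise_iff_exists]
        constructor
        · intro h
          obtain ⟨a, ha, b, hb, hab⟩ := Submodule.mem_sup.1 h
          obtain ⟨c, rfl⟩ := Ideal.mem_span_singleton'.1 hb
          refine ⟨e.symm (Ideal.Quotient.mk _ c), trivial, e.injective ?_⟩
          rw [map_smul, e.apply_symm_apply, ← hr, ← hab, map_add, Ideal.Quotient.eq_zero_iff_mem.2 ha, zero_add,
            Algebra.smul_def, Ideal.Quotient.algebraMap_eq, ← map_mul, mul_comm]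
        · rintro ⟨m, -, rfl⟩
          obtain ⟨c, hc⟩ := Ideal.Quotient.mk_surjective (e m)
          rw [map_smul, ← hc, Algebra.smul_def, Ideal.Quotient.algebraMap_eq, ← map_mul, Ideal.Quotient.eq] at hr
          have : r = (r - x * c) + x * c := by ring
          rw [this]
          exact Submodule.add_mem _ (Ideal.mem_sup_left hr) (Ideal.mem_sup_right (Ideal.mul_mem_right _ _ (Ideal.subset_span rfl)))
      rw [← hk]
      exact (g.quotKerEquivOfSurjective hg).length_eq
    have hker_top : x ∈ q.asIdeal → LinearMap.ker (LinearMap.lsmul R N x) = ⊤ := fun h => by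
      rw [eq_top_iff]; intro n _
      rw [LinearMap.mem_ker, LinearMap.lsmul_apply]
      apply e.injective
      obtain ⟨r, hr⟩ := Ideal.Quotient.mk_surjective (e n)
      rw [map_smul, map_zero, ← hr, Algebra.smul_def, Ideal.Quotient.algebraMap_eq, ← map_mul,
        Ideal.Quotient.eq_zero_iff_mem]
      exact Ideal.mul_mem_right _ _ h
    have hker_bot : x ∉ q.asIdeal → LinearMap.ker (LinearMap.lsmul R N x) = ⊥ := fun h => by
      rw [eq_bot_iff]; intro n hn
      rw [LinearMap.mem_ker, LinearMap.lsmul_apply] at hn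
      apply e.injective
      obtain ⟨r, hr⟩ := Ideal.Quotient.mk_surjective (e n)
      have := congrArg e hn
      rw [map_smul, map_zero, ← hr, Algebra.smul_def, Ideal.Quotient.algebraMap_eq, ← map_mul,
        Ideal.Quotient.eq_zero_iff_mem] at this
      rw [map_zero, ← hr, Ideal.Quotient.eq_zero_iff_mem]
      exact (q.2.mem_or_mem this).resolve_left h
    by_cases hq : q.asIdeal = IsLocalRing.maximalIdeal R
    · rw [Finset.sum_eq_zero (fun p hp => by
        rw [hloc p hp fun h => ((hS p).1 hp).2 (h ▸ hq), mul_zero]), add_zero, hlenEq]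
      by_cases hxq : x ∈ q.asIdeal
      · rw [hker_top hxq, Submodule.topEquiv.length_eq, sup_eq_left.2 ((Ideal.span_singleton_le_iff_mem _).2 hxq)]
        exact e.length_eq.symm
      · rw [hker_bot hxq, Module.length_eq_zero (M := (⊥ : Submodule R N)),
          show q.asIdeal ⊔ Ideal.span {x} = ⊤ from by
            rw [hq] at hxq ⊢
            exact Ideal.eq_top_of_isUnit_mem _ (Ideal.mem_sup_right (Ideal.subset_span rfl))
              (by rwa [IsLocalRing.mem_maximalIdeal, mem_nonunits_iff, not_not] at hxq)]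
        haveI : Subsingleton (R ⧸ (⊤ : Ideal R)) := Ideal.Quotient.subsingleton_iff.2 rfl
        exact Module.length_eq_zero
    · have hqS : q ∈ S := (hS q).2 ⟨hqM, hq⟩
      rw [Finset.sum_eq_single q (fun p hp hpq => by rw [hloc p hp hpq, mul_zero]) (fun h => absurd hqS h),
        hker_bot (hx q hqS), Module.length_eq_zero (M := (⊥ : Submodule R N)), zero_add,
        show locLen q N = 1 from ?_, mul_one, hlenEq]
      · rw [Ring.ord, ← Module.length_eq_of_surjective (S := R) (R := R ⧸ q.asIdeal) Ideal.Quotient.mk_surjective]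
        have hmap : Ideal.span {Ideal.Quotient.mk q.asIdeal x} =
            (Ideal.span {x}).map (Ideal.Quotient.mk q.asIdeal) := by rw [Ideal.map_span, Set.image_singleton]
        rw [hmap]
        exact (DoubleQuot.quotQuotEquivQuotSupₐ R q.asIdeal (Ideal.span {x})).toLinearEquiv.length_eq.symm
      · rw [← locLen_quotient_self q]
        exact le_antisymm
          (le_of_eq ((locLen_add q (0 : PUnit →ₗ[R] N) e.toLinearMap (fun a b _ => Subsingleton.elim a b) e.surjective
            (fun n => ⟨fun h => ⟨0, (e.map_eq_zero_iff.1 h).symm⟩, fun ⟨_, h⟩ => h ▸ map_zero e⟩)).trans (by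
              rw [locLen_eq_zero (N := PUnit) (Module.notMem_support_iff.2 inferInstance), zero_add])))
          (le_of_eq ((locLen_add q (0 : PUnit →ₗ[R] N) e.toLinearMap (fun a b _ => Subsingleton.elim a b) e.surjective
            (fun n => ⟨fun h => ⟨0, (e.map_eq_zero_iff.1 h).symm⟩, fun ⟨_, h⟩ => h ▸ map_zero e⟩)).trans (by
              rw [locLen_eq_zero (N := PUnit) (Module.notMem_support_iff.2 inferInstance), zero_add])).symm)
  | exact N₁ N₂ N₃ f g hf hg hfg ih1 ih3 =>
    intro hN
    have hsup := Module.support_of_exact hfg hf hg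
    have hN1 : Module.support R N₁ ⊆ Module.support R M := fun p hp => hN (hsup ▸ Or.inl hp)
    have hN3 : Module.support R N₃ ⊆ Module.support R M := fun p hp => hN (hsup ▸ Or.inr hp)
    have h1 := ih1 hN1
    have h3 := ih3 hN3
    obtain ⟨a1t, b1t⟩ := hfinA N₁ hN1
    obtain ⟨a2t, b2t⟩ := hfinA N₂ hN
    obtain ⟨a3t, b3t⟩ := hfinA N₃ hN3
    have hsum : ∑ p ∈ S, Ring.ord (R ⧸ p.asIdeal) (Ideal.Quotient.mk p.asIdeal x) * locLen p N₂ =
        ∑ p ∈ S, Ring.ord (R ⧸ p.asIdeal) (Ideal.Quotient.mk p.asIdeal x) * locLen p N₁ +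
        ∑ p ∈ S, Ring.ord (R ⧸ p.asIdeal) (Ideal.Quotient.mk p.asIdeal x) * locLen p N₃ := by
      rw [← Finset.sum_add_distrib]
      exact Finset.sum_congr rfl fun p _ => by rw [locLen_add p f g hf hg hfg, mul_add]
    have ek : ∀ (N : Type u) [AddCommGroup N] [Module R N],
        Module.length R (perH (x • LinearMap.id : N →ₗ[R] N) 0) = Module.length R (LinearMap.ker (LinearMap.lsmul R N x)) := by
      intro N _ _
      rw [LinearEquiv.length_eq (Submodule.quotEquivOfEqBot _ (by
        rw [LinearMap.range_zero, Submodule.submoduleOf, Submodule.comap_bot, Submodule.ker_subtype]))]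
      exact (LinearEquiv.ofEq _ _ (by ext; simp)).length_eq
    have ea : ∀ (N : Type u) [AddCommGroup N] [Module R N],
        Module.length R (perH (0 : N →ₗ[R] N) (x • LinearMap.id)) = Module.length R (N ⧸ x • (⊤ : Submodule R N)) := by
      intro N _ _
      let h : N →ₗ[R] perH (0 : N →ₗ[R] N) (x • LinearMap.id) :=
        (Submodule.mkQ _).comp (LinearMap.codRestrict _ LinearMap.id fun n => LinearMap.zero_apply n)
      have hs : Function.Surjective h := fun z => by
        obtain ⟨y, hy, rfl⟩ := mk_surjective z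
        exact ⟨y, rfl⟩
      have hk : LinearMap.ker h = x • (⊤ : Submodule R N) := by
        ext n
        rw [LinearMap.mem_ker]
        show mk (0 : N →ₗ[R] N) (x • LinearMap.id) n rfl = 0 ↔ _
        rw [mk_eq_zero, Submodule.mem_smul_pointwise_iff_exists]
        exact ⟨fun ⟨y, hy⟩ => ⟨y, trivial, hy⟩, fun ⟨y, _, hy⟩ => ⟨y, hy⟩⟩
      rw [← hk]
      exact (h.quotKerEquivOfSurjective hs).length_eq.symm
    have hF : ∀ (N : Type u) [AddCommGroup N] [Module R N], Module.length R (N ⧸ x • (⊤ : Submodule R N)) ≠ ⊤ →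
        Module.length R (LinearMap.ker (LinearMap.lsmul R N x)) ≠ ⊤ →
        FinCoh R (x • LinearMap.id : N →ₗ[R] N) 0 := fun N _ _ h h' =>
      ⟨by rw [ek]; exact h'.lt_top, by rw [ea]; exact h.lt_top⟩
    obtain ⟨-, -, -, hh⟩ := shortExact (φ₁ := (x • LinearMap.id : N₁ →ₗ[R] N₁)) (ψ₁ := 0)
      (φ₂ := (x • LinearMap.id : N₂ →ₗ[R] N₂)) (ψ₂ := 0) (φ₃ := (x • LinearMap.id : N₃ →ₗ[R] N₃)) (ψ₃ := 0)
      ⟨LinearMap.comp_zero _, LinearMap.zero_comp _⟩
      (f₁ := f) (g₁ := f) (f₂ := g) (g₂ := g) (by ext; simp) (by simp) (by ext; simp) (by simp) hf hf hg hg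
      hfg.linearMap_ker_eq.symm hfg.linearMap_ker_eq.symm (Or.inl ⟨hF N₁ a1t b1t, hF N₂ a2t b2t⟩)
    unfold CycAlg.herbrand at hh
    rw [ek, ek, ek, ea, ea, ea] at hh
    obtain ⟨a1, ea1⟩ := ENat.ne_top_iff_exists.1 a1t
    obtain ⟨b1, eb1⟩ := ENat.ne_top_iff_exists.1 b1t
    obtain ⟨a2, ea2⟩ := ENat.ne_top_iff_exists.1 a2t
    obtain ⟨b2, eb2⟩ := ENat.ne_top_iff_exists.1 b2t
    obtain ⟨a3, ea3⟩ := ENat.ne_top_iff_exists.1 a3t
    obtain ⟨b3, eb3⟩ := ENat.ne_top_iff_exists.1 b3t
    rw [← ea1, ← eb1] at h1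
    rw [← ea3, ← eb3] at h3
    rw [← ea1, ← eb1, ← ea2, ← eb2, ← ea3, ← eb3] at hh
    rw [hsum, ← ea2, ← eb2]
    obtain ⟨s1, es1⟩ := ENat.ne_top_iff_exists.1 (show (∑ p ∈ S,
        Ring.ord (R ⧸ p.asIdeal) (Ideal.Quotient.mk p.asIdeal x) * locLen p N₁) ≠ ⊤ from fun h => by
      rw [h, add_top] at h1; exact ENat.natCast_ne_top _ h1)
    obtain ⟨s3, es3⟩ := ENat.ne_top_iff_exists.1 (show (∑ p ∈ S,
        Ring.ord (R ⧸ p.asIdeal) (Ideal.Quotient.mk p.asIdeal x) * locLen p N₃) ≠ ⊤ from fun h => by
      rw [h, add_top] at h3; exact ENat.natCast_ne_top _ h3)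
    rw [← es1] at h1 ⊢
    rw [← es3] at h3 ⊢
    simp only [ENat.toNat_natCast] at hh
    norm_cast at h1 h3 ⊢
    omega

/-- The formula for a module with support of dimension at most one. -/
theorem length_quot_eq_finsum (M : Type u) [AddCommGroup M] [Module R M] [Module.Finite R M] (x : R)
    (h1 : Module.supportDim R M ≤ 1) (h0 : Module.supportDim R (M ⧸ x • (⊤ : Submodule R M)) ≤ 0) :
    Module.length R (M ⧸ x • (⊤ : Submodule R M)) = Module.length R (LinearMap.ker (LinearMap.lsmul R M x)) +
      ∑ᶠ (p : PrimeSpectrum R) (_ : p ∈ Module.support R M ∧ p.asIdeal ≠ IsLocalRing.maximalIdeal R),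
        Ring.ord (R ⧸ p.asIdeal) (Ideal.Quotient.mk p.asIdeal x) * locLen p M := by
  set S := {p : PrimeSpectrum R | p ∈ Module.support R M ∧ p.asIdeal ≠ IsLocalRing.maximalIdeal R}
  have hco : ∀ p ∈ Module.support R M, ∀ q ∈ Module.support R M, p < q → q.asIdeal = IsLocalRing.maximalIdeal R := by
    intro p hp q hq hpq
    have e1 : (Order.coheight p : WithBot ℕ∞) ≤ ((1 : ℕ∞) : WithBot ℕ∞) := (coheight_le hp).trans h1
    have e2 := (Order.coheight_add_one_le hpq).trans (WithBot.coe_le_coe.1 e1)
    have e3 : Order.coheight q = 0 := by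
      exact nonpos_iff_eq_zero.1 ((ENat.add_le_add_iff_right ENat.one_ne_top).1 (e2.trans_eq (zero_add (1 : ℕ∞)).symm))
    exact IsLocalRing.eq_maximalIdeal (PrimeSpectrum.isMax_iff.1 (Order.coheight_eq_zero.1 e3))
  have hmin : ∀ p ∈ S, ∀ q ∈ Module.support R M, q ≤ p → q = p := fun p hp q hq hle =>
    hle.eq_or_lt.elim id fun hlt => absurd (hco q hq p hp.1 hlt) hp.2
  have hfin : S.Finite := by
    refine ((minimalPrimes.finite_of_isNoetherianRing (R ⧸ Module.annihilator R M)).image
      (fun I => I.comap (Ideal.Quotient.mk (Module.annihilator R M)))).preimage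
      (f := fun p : PrimeSpectrum R => p.asIdeal) (fun a _ b _ => PrimeSpectrum.ext) |>.subset ?_
    intro p hp
    rw [Set.mem_preimage]
    refine ⟨(p.asIdeal.map (Ideal.Quotient.mk (Module.annihilator R M))), ?_, ?_⟩
    swap
    · show Ideal.comap _ (Ideal.map _ p.asIdeal) = p.asIdeal
      rw [Ideal.comap_map_of_surjective _ Ideal.Quotient.mk_surjective, ← RingHom.ker_eq_comap_bot, Ideal.mk_ker]
      refine sup_eq_left.2 ?_
      have := hp.1
      rw [Module.support_eq_zeroLocus, PrimeSpectrum.mem_zeroLocus] at this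
      exact this
    have hle : Module.annihilator R M ≤ p.asIdeal := by
      have := hp.1
      rwa [Module.support_eq_zeroLocus, PrimeSpectrum.mem_zeroLocus] at this
    refine ⟨⟨Ideal.map_isPrime_of_surjective Ideal.Quotient.mk_surjective (by rwa [Ideal.mk_ker]), bot_le⟩, fun Q hQ hQp => ?_⟩
    haveI := hQ.1
    let q : PrimeSpectrum R := ⟨Q.comap (Ideal.Quotient.mk _), inferInstance⟩
    have h := hmin p hp q (by
      rw [Module.support_eq_zeroLocus, PrimeSpectrum.mem_zeroLocus]
      exact (Ideal.mk_ker (I := Module.annihilator R M)).ge.trans (Ideal.ker_le_comap _)) (by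
      refine (PrimeSpectrum.asIdeal_le_asIdeal _ _).1 ((Ideal.comap_mono hQp).trans ?_)
      rw [Ideal.comap_map_of_surjective _ Ideal.Quotient.mk_surjective, ← RingHom.ker_eq_comap_bot, Ideal.mk_ker]
      exact sup_le le_rfl hle)
    rw [← congrArg PrimeSpectrum.asIdeal h]
    exact (Ideal.map_comap_of_surjective _ Ideal.Quotient.mk_surjective Q).le
  have hx : ∀ p ∈ S, x ∉ p.asIdeal := fun p hp hxp => by
    have hpM : p ∈ Module.support R (M ⧸ x • (⊤ : Submodule R M)) := by
      rw [← Submodule.ideal_span_singleton_smul, Module.support_quotient]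
      exact ⟨hp.1, by rw [PrimeSpectrum.zeroLocus_span]; simpa using hxp⟩
    have e1 : (Order.coheight p : WithBot ℕ∞) ≤ ((0 : ℕ∞) : WithBot ℕ∞) := (coheight_le hpM).trans h0
    exact hp.2 (IsLocalRing.eq_maximalIdeal (PrimeSpectrum.isMax_iff.1
      (Order.coheight_eq_zero.1 (nonpos_iff_eq_zero.1 (WithBot.coe_le_coe.1 e1)))))
  rw [length_quot_eq M x hfin.toFinset (fun p => hfin.mem_toFinset) (fun p hp => hx p (hfin.mem_toFinset.1 hp))
    (fun p hp => hmin p (hfin.mem_toFinset.1 hp)), ← finsum_mem_eq_finite_toFinset_sum _ hfin]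
  rfl

end Groth.Agent.Herbrand26
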