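import Groth.Agent.Lib.Herbrand26.Basic
import Groth.Agent.Lib.HilbSam.Poly
import Mathlib.RingTheory.KrullDimension.Module
import Mathlib.RingTheory.Support
import Mathlib.RingTheory.Spectrum.Prime.Module

/-! # Applications of the exact hexagon -/

universe u v

open CycAlg
open scoped Pointwise

namespace Groth.Agent.Herbrand26

variable {R : Type u} [CommRing R] {M : Type v} [AddCommGroup M] [Module R M]

theorem pow_mul_apply (φ : M →ₗ[R] M) {a b c : ℕ} (h : a + b = c) (x : M) : (φ ^ a) ((φ ^ b) x) = (φ ^ c) x := by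
  rw [← h, pow_add, Module.End.mul_apply]

theorem coheight_le {p : PrimeSpectrum R} (hp : p ∈ Module.support R M) :
    (Order.coheight p : WithBot ℕ∞) ≤ Module.supportDim R M := by
  rw [Order.coheight_eq_krullDim_Ici]
  exact Order.krullDim_le_of_strictMono (fun q => ⟨q.1, Module.mem_support_mono q.2 hp⟩)
    fun _ _ hab => hab

section nilp

variable (φ : M →ₗ[R] M) (n : ℕ)

/-- The map `φ^k` between the cohomology groups. -/
noncomputable def powMap (k b c : ℕ) (h₁ : b ≤ c + k) (h₂ : (n - c) ≤ (n - b) + k) :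
    perH (φ ^ b) (φ ^ (n - b)) →ₗ[R] perH (φ ^ c) (φ ^ (n - c)) :=
  mapH (φ ^ k) (fun x hx => by
      rw [pow_mul_apply φ (rfl : c + k = c + k), show c + k = (c + k - b) + b by omega,
        ← pow_mul_apply φ (rfl : (c + k - b) + b = _), hx, map_zero])
    (fun y _ => ⟨(φ ^ ((n - b) + k - (n - c))) y, by
      rw [pow_mul_apply φ (rfl : _ = _), pow_mul_apply φ (rfl : _ = _)]; congr 2; omega⟩)

theorem nilp (hn : 0 < n) (hφ : φ ^ n = 0) (hfin : Module.length R (perH φ (φ ^ (n - 1))) < ⊤) :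
    ∀ i ≤ n, FinCoh R (φ ^ i) (φ ^ (n - i)) ∧ herbrand R (φ ^ i) (φ ^ (n - i)) = 0 := by
  let ℓ : ℕ → ℕ∞ := fun i => Module.length R (perH (φ ^ i) (φ ^ (n - i)))
  have h0 : ℓ 0 = 0 := Module.length_eq_zero_iff.2 ⟨fun z w => by
    obtain ⟨x, hx, rfl⟩ := mk_surjective z
    obtain ⟨y, hy, rfl⟩ := mk_surjective w
    simp only [pow_zero, Module.End.one_apply] at hx hy
    subst hx; subst hy; rfl⟩
  have hnn : ℓ n = 0 := Module.length_eq_zero_iff.2 ⟨fun z w => by
    obtain ⟨x, hx, rfl⟩ := mk_surjective z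
    obtain ⟨y, hy, rfl⟩ := mk_surjective w
    exact mk_eq_mk.2 ⟨x - y, by simp⟩⟩
  have zero : ∀ {m}, n ≤ m → ∀ x : M, (φ ^ m) x = 0 := fun {m} hm x => by
    rw [show m = (m - n) + n by omega, ← pow_mul_apply φ rfl, hφ, LinearMap.zero_apply, map_zero]
  have hexa : ∀ (i : ℕ) (h1 : 1 ≤ i) (hi : i ≤ n),
      Function.Exact (powMap φ n 0 1 i (by omega) (by omega)) (powMap φ n 1 i (i - 1) (by omega) (by omega)) ∧
      Function.Exact (powMap φ n 1 i (i - 1) (by omega) (by omega)) (powMap φ n 0 (i - 1) (n - 1) (by omega) (by omega)) ∧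
      Function.Exact (powMap φ n 0 (i - 1) (n - 1) (by omega) (by omega))
        (powMap φ n (i - 1) (n - 1) (n - i) (by omega) (by omega)) ∧
      Function.Exact (powMap φ n (i - 1) (n - 1) (n - i) (by omega) (by omega))
        (powMap φ n 0 (n - i) (n - (i - 1)) (by omega) (by omega)) ∧
      Function.Exact (powMap φ n 0 (n - i) (n - (i - 1)) (by omega) (by omega))
        (powMap φ n (n - i) (n - (i - 1)) 1 (by omega) (by omega)) ∧
      Function.Exact (powMap φ n (n - i) (n - (i - 1)) 1 (by omega) (by omega))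
        (powMap φ n 0 1 i (by omega) (by omega)) := by
    intro i h1 hi
    have gen : ∀ (k b c l d : ℕ) (p₁ : b ≤ c + k) (p₂ : n - c ≤ n - b + k) (q₁ : c ≤ d + l) (q₂ : n - d ≤ n - c + l)
        (hd : d ≤ n) (hc : c ≤ n)
        (hb : (∀ x, (φ ^ b) x = 0 → (φ ^ (l + k)) x = 0) ∨ n - d ≤ l + k)
        (he : ∀ x, (φ ^ c) x = 0 → ∀ y, (φ ^ (n - d)) y = (φ ^ l) x → ∃ w, (φ ^ b) w = 0 ∧ ∃ z, (φ ^ (n - c)) z = (φ ^ k) w - x),
        Function.Exact (powMap φ n k b c p₁ p₂) (powMap φ n l c d q₁ q₂) := by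
      intro k b c l d p₁ p₂ q₁ q₂ hd hc hb he
      refine exact_mapH (fun x hx => ?_) fun x hx ⟨y, hy⟩ => he x hx y hy
      rw [pow_mul_apply φ rfl]
      rcases hb with hb | hb
      · exact ⟨0, by rw [map_zero, hb x hx]⟩
      · exact ⟨(φ ^ (l + k - (n - d))) x, by rw [pow_mul_apply φ rfl]; congr 2; omega⟩
    have sub : ∀ {a : ℕ} {x y : M}, (φ ^ a) x = (φ ^ a) y → (φ ^ a) (x - y) = 0 := fun h => by
      rw [map_sub, h, sub_self]
    refine ⟨gen _ _ _ _ _ _ _ _ _ (by omega) hi (Or.inl fun x hx => hx) ?_,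
      gen _ _ _ _ _ _ _ _ _ (by omega) (by omega) (Or.inr (by omega)) ?_,
      gen _ _ _ _ _ _ _ _ _ (by omega) (by omega) (Or.inl fun x hx => by rw [add_zero]; exact hx) ?_,
      gen _ _ _ _ _ _ _ _ _ (by omega) (by omega) (Or.inr (by omega)) ?_,
      gen _ _ _ _ _ _ _ _ _ (by omega) (by omega) (Or.inl fun x hx => by rw [add_zero]; exact hx) ?_,
      gen _ _ _ _ _ _ _ _ _ (by omega) (by omega) (Or.inr (by omega)) ?_⟩
    · intro x hx y hy
      refine ⟨x - (φ ^ (n - i)) y, sub ?_, -y, ?_⟩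
      · rw [← hy, pow_mul_apply φ rfl]; congr 2; omega
      · simp only [pow_zero, Module.End.one_apply, map_neg]; abel
    · intro x hx y hy
      simp only [pow_zero, Module.End.one_apply] at hy
      refine ⟨y, ?_, 0, ?_⟩
      · rw [show i = (i - 1) + (n - (n - 1)) by omega, ← pow_mul_apply φ rfl, hy]; exact hx
      · rw [map_zero, show 1 = n - (n - 1) by omega, hy, sub_self]
    · intro x hx y hy
      refine ⟨x - (φ ^ (n - (n - 1))) y, sub ?_, -y, ?_⟩
      · rw [pow_mul_apply φ rfl, ← hy]; congr 2; omega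
      · simp only [pow_zero, Module.End.one_apply, map_neg]; abel
    · intro x hx y hy
      simp only [pow_zero, Module.End.one_apply] at hy
      refine ⟨y, ?_, 0, ?_⟩
      · rw [show n - 1 = (n - i) + (n - (n - (i - 1))) by omega, ← pow_mul_apply φ rfl, hy]; exact hx
      · rw [map_zero, show i - 1 = n - (n - (i - 1)) by omega, hy, sub_self]
    · intro x hx y hy
      refine ⟨x - (φ ^ (n - (n - (i - 1)))) y, sub ?_, -y, ?_⟩
      · rw [pow_mul_apply φ rfl, ← hy]; congr 2; omega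
      · simp only [pow_zero, Module.End.one_apply, map_neg]; abel
    · intro x hx y hy
      simp only [pow_zero, Module.End.one_apply] at hy
      refine ⟨y, ?_, 0, ?_⟩
      · rw [show n - (i - 1) = 1 + (n - i) by omega, ← pow_mul_apply φ rfl, hy]; exact hx
      · rw [map_zero, hy, sub_self]
  have hℓ1 : ℓ 1 < ⊤ := by
    simp only [ℓ, pow_one]; exact hfin
  have hall : ∀ i ≤ n, ℓ i < ⊤ := by
    intro i
    induction i with
    | zero => intro _; rw [h0]; exact ENat.coe_lt_top 0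
    | succ i ih =>
      intro hi
      show Module.length R _ < ⊤
      rw [length_eq_range_add_range _ _ (hexa (i + 1) (by omega) hi).1]
      exact ENat.add_lt_top.2 ⟨(length_range_le_left _).trans_lt hℓ1,
        (length_range_le_right _).trans_lt (by rw [Nat.add_sub_cancel]; exact ih (by omega))⟩
  let h : ℕ → ℤ := fun i => ((ℓ i).toNat : ℤ)
  let e : ℕ → ℤ := fun i => h i - h (n - i)
  have step : ∀ i, 1 ≤ i → i ≤ n → e i = e (i - 1) + e 1 := by
    intro i h1 hi
    obtain ⟨x1, x2, x3, x4, x5, x6⟩ := hexa i h1 hi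
    have := (hexagon _ _ _ _ _ _ x1 x2 x3 x4 x5 x6 (Or.inl hℓ1) (Or.inl (hall i hi)) (Or.inl (hall _ (by omega)))
      (Or.inl (hall _ (by omega))) (Or.inl (hall _ (by omega))) (Or.inl (hall _ (by omega)))).2
    simp only [e, h, ℓ]
    omega
  have lin : ∀ i ≤ n, e i = i * e 1 + e 0 := by
    intro i
    induction i with
    | zero => intro _; simp
    | succ i ih =>
      intro hi
      rw [step (i + 1) (by omega) hi, Nat.add_sub_cancel, ih (by omega)]
      push_cast; ring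
  have he0 : e 0 = 0 := by simp only [e, h, Nat.sub_zero, h0, hnn]; simp
  have hen : e n = 0 := by simp only [e, h, Nat.sub_self, h0, hnn]; simp
  have he1 : e 1 = 0 := by
    have h2 : (n : ℤ) * e 1 = 0 := by
      have := lin n le_rfl
      rw [hen, he0, add_zero] at this; exact this.symm
    exact (mul_eq_zero.1 h2).resolve_left (by exact_mod_cast hn.ne')
  intro i hi
  have key : ∀ j, j = i → Module.length R (perH (φ ^ (n - i)) (φ ^ j)) = Module.length R (perH (φ ^ (n - i)) (φ ^ i)) := by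
    rintro j rfl; rfl
  have hsw := key (n - (n - i)) (by omega)
  refine ⟨⟨hall i hi, hsw ▸ hall (n - i) (by omega)⟩, ?_⟩
  show h i - _ = 0
  rw [← hsw]
  show e i = 0
  rw [lin i hi, he1, he0, mul_zero, add_zero]

end nilp

theorem of_finite_ker_coker {M' : Type v} [AddCommGroup M'] [Module R M'] {φ ψ : M →ₗ[R] M} {φ' ψ' : M' →ₗ[R] M'}
    (h : IsPeriodic φ ψ) (h' : IsPeriodic φ' ψ') {f : M →ₗ[R] M'} (cφ : φ' ∘ₗ f = f ∘ₗ φ) (cψ : ψ' ∘ₗ f = f ∘ₗ ψ)
    (hfin : FinCoh R φ ψ) (hfin' : FinCoh R φ' ψ') (hker : Module.length R (LinearMap.ker f) < ⊤)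
    (hcoker : Module.length R (M' ⧸ LinearMap.range f) < ⊤) : herbrand R φ ψ = herbrand R φ' ψ' := by
  have eφ : ∀ x, φ' (f x) = f (φ x) := LinearMap.congr_fun cφ
  have eψ : ∀ x, ψ' (f x) = f (ψ x) := LinearMap.congr_fun cψ
  have kφ : ∀ x ∈ LinearMap.ker f, φ x ∈ LinearMap.ker f := fun x hx => by
    rw [LinearMap.mem_ker, ← eφ, LinearMap.mem_ker.1 hx, map_zero]
  have kψ : ∀ x ∈ LinearMap.ker f, ψ x ∈ LinearMap.ker f := fun x hx => by
    rw [LinearMap.mem_ker, ← eψ, LinearMap.mem_ker.1 hx, map_zero]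
  have rφ : ∀ x ∈ LinearMap.range f, φ' x ∈ LinearMap.range f := by
    rintro _ ⟨x, rfl⟩; exact ⟨φ x, (eφ x).symm⟩
  have rψ : ∀ x ∈ LinearMap.range f, ψ' x ∈ LinearMap.range f := by
    rintro _ ⟨x, rfl⟩; exact ⟨ψ x, (eψ x).symm⟩
  have qφ : LinearMap.range f ≤ (LinearMap.range f).comap φ' := fun x hx => rφ x hx
  have qψ : LinearMap.range f ≤ (LinearMap.range f).comap ψ' := fun x hx => rψ x hx
  let φq := Submodule.mapQ _ _ φ' qφ
  let ψq := Submodule.mapQ _ _ ψ' qψ
  have pk : IsPeriodic (φ.restrict kφ) (ψ.restrict kψ) :=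
    ⟨LinearMap.ext fun x => Subtype.ext (LinearMap.congr_fun h.1 x.1),
      LinearMap.ext fun x => Subtype.ext (LinearMap.congr_fun h.2 x.1)⟩
  have pq : IsPeriodic φq ψq := by
    constructor <;>
    · refine Submodule.linearMap_qext _ (LinearMap.ext fun x => ?_)
      first
        | exact (congrArg Submodule.Quotient.mk (LinearMap.congr_fun h'.1 x)).trans (by simp)
        | exact (congrArg Submodule.Quotient.mk (LinearMap.congr_fun h'.2 x)).trans (by simp)
  obtain ⟨fk, ek⟩ := finCoh_of_finite pk hker hker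
  obtain ⟨fq, eq⟩ := finCoh_of_finite pq hcoker hcoker
  obtain ⟨-, -, fr, e1⟩ := shortExact (φ₁ := φ.restrict kφ) (ψ₁ := ψ.restrict kψ) (φ₃ := φ'.restrict rφ)
    (ψ₃ := ψ'.restrict rψ) h (f₁ := (LinearMap.ker f).subtype) (g₁ := (LinearMap.ker f).subtype)
    (f₂ := f.rangeRestrict) (g₂ := f.rangeRestrict) rfl rfl
    (LinearMap.ext fun x => Subtype.ext (eφ x)) (LinearMap.ext fun x => Subtype.ext (eψ x))
    (Submodule.subtype_injective _) (Submodule.subtype_injective _) f.surjective_rangeRestrict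
    f.surjective_rangeRestrict (by rw [Submodule.range_subtype, LinearMap.ker_rangeRestrict])
    (by rw [Submodule.range_subtype, LinearMap.ker_rangeRestrict]) (Or.inl ⟨fk, hfin⟩)
  obtain ⟨-, -, -, e2⟩ := shortExact (φ₁ := φ'.restrict rφ) (ψ₁ := ψ'.restrict rψ) (φ₃ := φq) (ψ₃ := ψq) h'
    (f₁ := (LinearMap.range f).subtype) (g₁ := (LinearMap.range f).subtype)
    (f₂ := (LinearMap.range f).mkQ) (g₂ := (LinearMap.range f).mkQ) rfl rfl rfl rfl
    (Submodule.subtype_injective _) (Submodule.subtype_injective _) (Submodule.mkQ_surjective _)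
    (Submodule.mkQ_surjective _) (by rw [Submodule.range_subtype, Submodule.ker_mkQ])
    (by rw [Submodule.range_subtype, Submodule.ker_mkQ]) (Or.inl ⟨fr, hfin'⟩)
  rw [e1, e2, ek, eq, sub_self, sub_self, zero_add, add_zero]

section smul

variable [IsNoetherianRing R] [IsLocalRing R] [Module.Finite R M]

theorem finite_pieces (x : R) (hx : Module.supportDim R (M ⧸ x • (⊤ : Submodule R M)) ≤ 0) (I : Submodule R M) :
    Module.length R (perH (0 : I →ₗ[R] I) (x • LinearMap.id)) < ⊤ ∧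
      Module.length R (perH (x • LinearMap.id) (0 : I →ₗ[R] I)) < ⊤ := by
  haveI : IsNoetherian R M := isNoetherian_of_isNoetherianRing_of_finite R M
  have key : ∀ (Q : Type v) [AddCommGroup Q] [Module R Q] [Module.Finite R Q],
      Module.support R Q ⊆ Module.support R I → x ∈ Module.annihilator R Q → Module.length R Q < ⊤ := by
    intro Q _ _ _ hs hann
    refine lt_top_iff_ne_top.2 (Module.length_ne_top_iff.2 (HilbSam.isFiniteLength_of_support fun p hp => ?_))
    have hxp : x ∈ p.asIdeal := by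
      rw [Module.support_eq_zeroLocus, PrimeSpectrum.mem_zeroLocus] at hp
      exact hp hann
    have hpM : p ∈ Module.support R (M ⧸ x • (⊤ : Submodule R M)) := by
      rw [← Submodule.ideal_span_singleton_smul, Module.support_quotient]
      exact ⟨Module.support_subset_of_injective I.subtype Subtype.val_injective (hs hp), by
        rw [PrimeSpectrum.zeroLocus_span]; simpa using hxp⟩
    have h1 : (Order.coheight p : WithBot ℕ∞) ≤ ((0 : ℕ∞) : WithBot ℕ∞) :=
      (coheight_le hpM).trans hx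
    have h2 : IsMax p := Order.coheight_eq_zero.1 (nonpos_iff_eq_zero.1 (WithBot.coe_le_coe.1 h1))
    exact PrimeSpectrum.isMax_iff.1 h2
  constructor
  · refine key _ ((Module.support_subset_of_surjective _ (Submodule.mkQ_surjective _)).trans
      (Module.support_subset_of_injective (Submodule.subtype _) (Submodule.subtype_injective _))) ?_
    rw [Module.mem_annihilator]
    intro z
    obtain ⟨y, hy, rfl⟩ := mk_surjective z
    exact (Submodule.Quotient.mk_eq_zero _).2 ⟨y, rfl⟩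
  · refine key _ ((Module.support_subset_of_surjective _ (Submodule.mkQ_surjective _)).trans
      (Module.support_subset_of_injective (Submodule.subtype _) (Submodule.subtype_injective _))) ?_
    rw [Module.mem_annihilator]
    intro z
    obtain ⟨y, hy, rfl⟩ := mk_surjective z
    exact (Submodule.Quotient.mk_eq_zero _).2 ⟨0, by rw [map_zero]; exact hy.symm⟩

theorem smul_left (φ ψ : M →ₗ[R] M) (hper : IsPeriodic φ ψ) (hfin : FinCoh R φ ψ) (x : R)
    (hx : Module.supportDim R (M ⧸ x • (⊤ : Submodule R M)) ≤ 0) :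
    FinCoh R (x • φ) ψ ∧ herbrand R (x • φ) ψ = herbrand R φ ψ -
      herbrand R (0 : ↥(LinearMap.range φ) →ₗ[R] ↥(LinearMap.range φ)) (x • LinearMap.id) := by
  obtain ⟨hc, hk⟩ := finite_pieces x hx (LinearMap.range φ)
  have p₁ : ∀ y, φ (ψ y) = 0 := LinearMap.congr_fun hper.1
  -- the kernels
  let a : perH φ ψ →ₗ[R] perH (x • φ) ψ := mapH LinearMap.id (fun y hy => by simp [hy]) (fun y _ => ⟨y, rfl⟩)
  let b : perH (x • φ) ψ →ₗ[R] perH (x • LinearMap.id) (0 : ↥(LinearMap.range φ) →ₗ[R] ↥(LinearMap.range φ)) :=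
    mapH φ.rangeRestrict (fun y hy => Subtype.ext hy) (fun y _ => ⟨0, by
      rw [map_zero]; exact Subtype.ext (p₁ y).symm⟩)
  have e₀ : Module.length R (perH (x • φ) ψ) = Module.length R (perH φ ψ) +
      Module.length R (perH (x • LinearMap.id) (0 : ↥(LinearMap.range φ) →ₗ[R] ↥(LinearMap.range φ))) := by
    refine Module.length_eq_add_of_exact a b ?_ ?_ (exact_mapH (fun y hy => ⟨0, by
      rw [map_zero]; exact Subtype.ext hy.symm⟩) fun y _ ⟨w, hw⟩ => ?_)
    · intro z w e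
      obtain ⟨z, hz, rfl⟩ := mk_surjective z
      obtain ⟨w, hw, rfl⟩ := mk_surjective w
      simp only [a, mapH_mk, mk_eq_mk, LinearMap.id_apply] at e ⊢
      exact e
    · intro z
      obtain ⟨⟨_, y, rfl⟩, hy, rfl⟩ := mk_surjective z
      exact ⟨mk _ _ y (congrArg Subtype.val hy), rfl⟩
    · exact ⟨y, (congrArg Subtype.val hw).symm, 0, by simp⟩
  -- the images
  let c : perH (0 : ↥(LinearMap.range φ) →ₗ[R] ↥(LinearMap.range φ)) (x • LinearMap.id) →ₗ[R] perH ψ (x • φ) :=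
    mapH (LinearMap.range φ).subtype (fun y _ => by obtain ⟨_, w, rfl⟩ := y; exact LinearMap.congr_fun hper.2 w)
      (fun y _ => by obtain ⟨_, w, rfl⟩ := y; exact ⟨w, rfl⟩)
  let d : perH ψ (x • φ) →ₗ[R] perH ψ φ :=
    mapH LinearMap.id (fun y hy => hy) (fun y _ => ⟨x • y, by simp⟩)
  have e₁ : Module.length R (perH ψ (x • φ)) = Module.length R (perH (0 : ↥(LinearMap.range φ) →ₗ[R] ↥(LinearMap.range φ))
      (x • LinearMap.id)) + Module.length R (perH ψ φ) := by
    refine Module.length_eq_add_of_exact c d ?_ ?_ (exact_mapH (fun y _ => by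
      obtain ⟨_, w, rfl⟩ := y; exact ⟨w, rfl⟩) fun y _ ⟨w, hw⟩ => ?_)
    · intro z w e
      obtain ⟨z, hz, rfl⟩ := mk_surjective z
      obtain ⟨w, hw, rfl⟩ := mk_surjective w
      simp only [c, mapH_mk, mk_eq_mk] at e
      obtain ⟨t, ht⟩ := e
      exact mk_eq_mk.2 ⟨⟨φ t, t, rfl⟩, Subtype.ext ht⟩
    · intro z
      obtain ⟨y, hy, rfl⟩ := mk_surjective z
      exact ⟨mk _ _ y hy, rfl⟩
    · exact ⟨⟨φ w, w, rfl⟩, rfl, 0, by simpa using (sub_eq_zero.2 hw).symm⟩
  obtain ⟨A, hA⟩ := ENat.ne_top_iff_exists.1 hfin.1.ne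
  obtain ⟨B, hB⟩ := ENat.ne_top_iff_exists.1 hfin.2.ne
  obtain ⟨C, hC⟩ := ENat.ne_top_iff_exists.1 hc.ne
  obtain ⟨K, hK⟩ := ENat.ne_top_iff_exists.1 hk.ne
  rw [← hA, ← hK] at e₀
  rw [← hC, ← hB] at e₁
  unfold FinCoh herbrand
  rw [e₀, e₁, ← hA, ← hB, ← hC, ← hK, ← Nat.cast_add, ← Nat.cast_add]
  refine ⟨⟨ENat.coe_lt_top _, ENat.coe_lt_top _⟩, ?_⟩
  simp only [ENat.toNat_coe]
  push_cast
  ring

theorem smul_right (φ ψ : M →ₗ[R] M) (hper : IsPeriodic φ ψ) (hfin : FinCoh R φ ψ) (x : R)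
    (hx : Module.supportDim R (M ⧸ x • (⊤ : Submodule R M)) ≤ 0) :
    FinCoh R φ (x • ψ) ∧ herbrand R φ (x • ψ) = herbrand R φ ψ +
      herbrand R (0 : ↥(LinearMap.range ψ) →ₗ[R] ↥(LinearMap.range ψ)) (x • LinearMap.id) := by
  obtain ⟨h1, h2⟩ := smul_left ψ φ ⟨hper.2, hper.1⟩ ⟨hfin.2, hfin.1⟩ x hx
  refine ⟨⟨h1.2, h1.1⟩, ?_⟩
  unfold herbrand at h2 ⊢
  omega

end smul

end Groth.Agent.Herbrand26
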