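import Groth.Prelude.Def_CycAlg
import Mathlib.Algebra.Exact.Basic
import Mathlib.LinearAlgebra.Isomorphisms
import Mathlib.RingTheory.Length

/-! # Herbrand quotients of periodic complexes -/

universe u v

open CycAlg

namespace Groth.Agent.Herbrand26

variable {R : Type u} [CommRing R]

theorem length_eq_range_add_range {A B C : Type v} [AddCommGroup A] [Module R A] [AddCommGroup B] [Module R B]
    [AddCommGroup C] [Module R C] (f : A →ₗ[R] B) (g : B →ₗ[R] C) (h : Function.Exact f g) :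
    Module.length R B = Module.length R (LinearMap.range f) + Module.length R (LinearMap.range g) :=
  Module.length_eq_add_of_exact (LinearMap.range f).subtype g.rangeRestrict (Submodule.subtype_injective _)
    g.surjective_rangeRestrict (by
      rw [LinearMap.exact_iff, LinearMap.ker_rangeRestrict, Submodule.range_subtype]
      exact LinearMap.exact_iff.1 h)

theorem length_range_le_left {A B : Type v} [AddCommGroup A] [Module R A] [AddCommGroup B] [Module R B]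
    (f : A →ₗ[R] B) : Module.length R (LinearMap.range f) ≤ Module.length R A :=
  Module.length_le_of_surjective f.rangeRestrict f.surjective_rangeRestrict

theorem length_range_le_right {A B : Type v} [AddCommGroup A] [Module R A] [AddCommGroup B] [Module R B]
    (f : A →ₗ[R] B) : Module.length R (LinearMap.range f) ≤ Module.length R B :=
  Module.length_le_of_injective (LinearMap.range f).subtype (Submodule.subtype_injective _)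

variable {M N M' N' M'' N'' : Type v} [AddCommGroup M] [Module R M] [AddCommGroup N] [Module R N]
  [AddCommGroup M'] [Module R M'] [AddCommGroup N'] [Module R N']
  [AddCommGroup M''] [Module R M''] [AddCommGroup N''] [Module R N'']

section map

variable {φ : M →ₗ[R] N} {ψ : N →ₗ[R] M} {φ' : M' →ₗ[R] N'} {ψ' : N' →ₗ[R] M'}

/-- The class of a cycle. -/
abbrev mk (φ : M →ₗ[R] N) (ψ : N →ₗ[R] M) (x : M) (hx : φ x = 0) : perH φ ψ :=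
  Submodule.Quotient.mk ⟨x, LinearMap.mem_ker.2 hx⟩

theorem mk_eq_zero {x : M} {hx : φ x = 0} : mk φ ψ x hx = 0 ↔ ∃ y, ψ y = x := by
  rw [Submodule.Quotient.mk_eq_zero, Submodule.submoduleOf, Submodule.mem_comap]
  exact LinearMap.mem_range

theorem mk_surjective (z : perH φ ψ) : ∃ x hx, mk φ ψ x hx = z := by
  obtain ⟨⟨x, hx⟩, rfl⟩ := Submodule.Quotient.mk_surjective _ z
  exact ⟨x, hx, rfl⟩

theorem mk_eq_mk {x x' : M} {hx : φ x = 0} {hx' : φ x' = 0} : mk φ ψ x hx = mk φ ψ x' hx' ↔ ∃ y, ψ y = x - x' := by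
  rw [Submodule.Quotient.eq, Submodule.submoduleOf, Submodule.mem_comap]
  exact LinearMap.mem_range

/-- The map on cohomology induced by a map of chains. -/
noncomputable def mapH (f : M →ₗ[R] M') (h₁ : ∀ x, φ x = 0 → φ' (f x) = 0)
    (h₂ : ∀ y, φ (ψ y) = 0 → ∃ y', ψ' y' = f (ψ y)) : perH φ ψ →ₗ[R] perH φ' ψ' :=
  Submodule.mapQ _ _ (f.restrict fun x hx => LinearMap.mem_ker.2 (h₁ x hx)) (by
    rintro ⟨x, hx⟩ hxm
    obtain ⟨y, hy⟩ : ∃ y, ψ y = x := hxm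
    subst hy
    obtain ⟨y', hy'⟩ := h₂ y hx
    exact ⟨y', hy'⟩)

theorem mapH_mk (f : M →ₗ[R] M') (h₁ : ∀ x, φ x = 0 → φ' (f x) = 0)
    (h₂ : ∀ y, φ (ψ y) = 0 → ∃ y', ψ' y' = f (ψ y)) (x : M) (hx : φ x = 0) :
    mapH f h₁ h₂ (mk φ ψ x hx) = mk φ' ψ' (f x) (h₁ x hx) := rfl

theorem exact_mapH {φ'' : M'' →ₗ[R] N''} {ψ'' : N'' →ₗ[R] M''} {f : M →ₗ[R] M'} {g : M' →ₗ[R] M''}
    {h₁ : ∀ x, φ x = 0 → φ' (f x) = 0} {h₂ : ∀ y, φ (ψ y) = 0 → ∃ y', ψ' y' = f (ψ y)}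
    {k₁ : ∀ x, φ' x = 0 → φ'' (g x) = 0} {k₂ : ∀ y, φ' (ψ' y) = 0 → ∃ y', ψ'' y' = g (ψ' y)}
    (hc : ∀ x, φ x = 0 → ∃ y, ψ'' y = g (f x))
    (he : ∀ x, φ' x = 0 → (∃ y, ψ'' y = g x) → ∃ w, φ w = 0 ∧ ∃ y, ψ' y = f w - x) :
    Function.Exact (mapH (ψ := ψ) (ψ' := ψ') f h₁ h₂) (mapH (ψ' := ψ'') g k₁ k₂) := by
  intro z
  obtain ⟨x, hx, rfl⟩ := mk_surjective z
  rw [mapH_mk, mk_eq_zero]
  refine ⟨fun h => ?_, ?_⟩
  · obtain ⟨w, hw, hy⟩ := he x hx h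
    exact ⟨mk φ ψ w hw, by rw [mapH_mk, mk_eq_mk]; exact hy⟩
  · rintro ⟨z, hz⟩
    obtain ⟨w, hw, rfl⟩ := mk_surjective z
    rw [mapH_mk, mk_eq_mk] at hz
    obtain ⟨y, hy⟩ := hz
    obtain ⟨y₁, hy₁⟩ := hc w hw
    obtain ⟨y₂, hy₂⟩ := k₂ y (by rw [hy, map_sub, h₁ w hw, hx, sub_zero])
    exact ⟨y₁ - y₂, by rw [map_sub, hy₁, hy₂, hy, map_sub, sub_sub_cancel]⟩

end map

section ses

variable {φ₁ : M →ₗ[R] N} {ψ₁ : N →ₗ[R] M} {φ₂ : M' →ₗ[R] N'} {ψ₂ : N' →ₗ[R] M'} {φ₃ : M'' →ₗ[R] N''}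
  {ψ₃ : N'' →ₗ[R] M''} {f₁ : M →ₗ[R] M'} {g₁ : N →ₗ[R] N'} {f₂ : M' →ₗ[R] M''} {g₂ : N' →ₗ[R] N''}

/-- The map induced by a map of periodic complexes. -/
noncomputable def mapC {φ : M →ₗ[R] N} {ψ : N →ₗ[R] M} {φ' : M' →ₗ[R] N'} {ψ' : N' →ₗ[R] M'}
    (f : M →ₗ[R] M') (g : N →ₗ[R] N') (cφ : φ' ∘ₗ f = g ∘ₗ φ) (cψ : ψ' ∘ₗ g = f ∘ₗ ψ) :
    perH φ ψ →ₗ[R] perH φ' ψ' :=
  mapH f (fun x hx => by rw [← LinearMap.comp_apply, cφ, LinearMap.comp_apply, hx, map_zero])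
    (fun y _ => ⟨g y, LinearMap.congr_fun cψ y⟩)

/-- Three of the six exactness statements of the long exact sequence. -/
theorem half (h₂ : IsPeriodic φ₂ ψ₂)
    (cφ₁ : φ₂ ∘ₗ f₁ = g₁ ∘ₗ φ₁) (cψ₁ : ψ₂ ∘ₗ g₁ = f₁ ∘ₗ ψ₁)
    (cφ₂ : φ₃ ∘ₗ f₂ = g₂ ∘ₗ φ₂) (cψ₂ : ψ₃ ∘ₗ g₂ = f₂ ∘ₗ ψ₂)
    (hf₁ : Function.Injective f₁) (hg₁ : Function.Injective g₁) (hf₂ : Function.Surjective f₂)
    (hg₂ : Function.Surjective g₂) (hM : LinearMap.range f₁ = LinearMap.ker f₂)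
    (hN : LinearMap.range g₁ = LinearMap.ker g₂) :
    Function.Exact (mapC f₁ g₁ cφ₁ cψ₁) (mapC f₂ g₂ cφ₂ cψ₂) ∧
    ∃ δ : perH φ₃ ψ₃ →ₗ[R] perH ψ₁ φ₁,
      Function.Exact (mapC f₂ g₂ cφ₂ cψ₂) δ ∧ Function.Exact δ (mapC g₁ f₁ cψ₁ cφ₁) := by
  have eφ₁ := fun x => LinearMap.congr_fun cφ₁ x
  have eψ₁ := fun x => LinearMap.congr_fun cψ₁ x
  have eφ₂ := fun x => LinearMap.congr_fun cφ₂ x
  have eψ₂ := fun x => LinearMap.congr_fun cψ₂ x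
  simp only [LinearMap.comp_apply] at eφ₁ eψ₁ eφ₂ eψ₂
  have p₁ : ∀ x, φ₂ (ψ₂ x) = 0 := fun x => LinearMap.congr_fun h₂.1 x
  have p₂ : ∀ x, ψ₂ (φ₂ x) = 0 := fun x => LinearMap.congr_fun h₂.2 x
  have q₁ : ∀ x, f₂ (f₁ x) = 0 := fun x => LinearMap.mem_ker.1 (hM.le ⟨x, rfl⟩)
  have r₁ : ∀ x, f₂ x = 0 → ∃ w, f₁ w = x := fun x hx => hM.ge (LinearMap.mem_ker.2 hx)
  have r₂ : ∀ x, g₂ x = 0 → ∃ w, g₁ w = x := fun x hx => hN.ge (LinearMap.mem_ker.2 hx)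
  have cyc : ∀ m n, φ₂ m = g₁ n → ψ₁ n = 0 := fun m n h =>
    hf₁ (by rw [← eψ₁, ← h, p₂, map_zero])
  have lift : ∀ x : LinearMap.ker φ₃, ∃ m n, f₂ m = (x : M'') ∧ φ₂ m = g₁ n := fun x => by
    obtain ⟨m, hm⟩ := hf₂ x
    obtain ⟨n, hn⟩ := r₂ (φ₂ m) (by rw [← eφ₂, hm]; exact x.2)
    exact ⟨m, n, hm, hn.symm⟩
  choose m n hm hn using lift
  let D : LinearMap.ker φ₃ → perH ψ₁ φ₁ := fun x => mk ψ₁ φ₁ (n x) (cyc _ _ (hn x))
  have hD : ∀ (x : LinearMap.ker φ₃) m' n' (h : φ₂ m' = g₁ n'), f₂ m' = (x : M'') →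
      D x = mk ψ₁ φ₁ n' (cyc _ _ h) := by
    intro x m' n' h hm'
    obtain ⟨w, hw⟩ := r₁ (m x - m') (by rw [map_sub, hm, hm', sub_self])
    refine mk_eq_mk.2 ⟨w, hg₁ ?_⟩
    rw [← eφ₁, hw, map_sub, map_sub, hn, h]
  let Dl : LinearMap.ker φ₃ →ₗ[R] perH ψ₁ φ₁ :=
    { toFun := D
      map_add' := fun x y => by
        rw [hD (x + y) (m x + m y) (n x + n y) (by rw [map_add, map_add, hn, hn]) (by rw [map_add, hm, hm]; rfl)]
        rfl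
      map_smul' := fun r x => by
        rw [hD (r • x) (r • m x) (r • n x) (by rw [map_smul, map_smul, hn]) (by rw [map_smul, hm]; rfl)]
        rfl }
  let δ : perH φ₃ ψ₃ →ₗ[R] perH ψ₁ φ₁ := Submodule.liftQ _ Dl (by
    rintro ⟨x, hx⟩ hxm
    obtain ⟨y, hy⟩ : ∃ y, ψ₃ y = x := hxm
    obtain ⟨y₂, rfl⟩ := hg₂ y
    show D ⟨x, hx⟩ = 0
    rw [hD ⟨x, hx⟩ (ψ₂ y₂) 0 (by rw [p₁, map_zero]) (by rw [← eψ₂]; exact hy)]
    exact mk_eq_zero.2 ⟨0, map_zero _⟩)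
  have hc : ∀ z, mapC g₁ f₁ cψ₁ cφ₁ z = 0 ↔ ∃ x k, ∃ hk : ψ₁ k = 0, z = mk ψ₁ φ₁ k hk ∧ φ₂ x = g₁ k := by
    intro z
    obtain ⟨k, hk, rfl⟩ := mk_surjective z
    rw [mapC, mapH_mk, mk_eq_zero]
    refine ⟨fun ⟨y, hy⟩ => ⟨y, k, hk, rfl, hy⟩, ?_⟩
    rintro ⟨x, k', hx, e, h⟩
    obtain ⟨w, hw⟩ := mk_eq_mk.1 e
    exact ⟨x + f₁ w, by rw [map_add, h, eφ₁, hw, map_sub]; abel⟩
  refine ⟨?_, δ, ?_, ?_⟩
  · refine exact_mapH (fun x _ => ⟨0, by rw [q₁, map_zero]⟩) fun x hx ⟨y, hy⟩ => ?_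
    obtain ⟨y₂, rfl⟩ := hg₂ y
    obtain ⟨w, hw⟩ := r₁ (x - ψ₂ y₂) (by rw [map_sub, ← eψ₂, hy, sub_self])
    refine ⟨w, hg₁ ?_, -y₂, by rw [map_neg, hw]; abel⟩
    rw [← eφ₁, hw, map_sub, hx, p₁, map_zero, sub_zero]
  · intro z
    obtain ⟨x, hx, rfl⟩ := mk_surjective z
    show D ⟨x, LinearMap.mem_ker.2 hx⟩ = 0 ↔ _
    constructor
    · intro h
      obtain ⟨w, hw⟩ := mk_eq_zero.1 h
      refine ⟨mk φ₂ ψ₂ (m ⟨x, hx⟩ - f₁ w) (by rw [map_sub, hn, eφ₁, hw, sub_self]), ?_⟩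
      rw [mapC, mapH_mk, mk_eq_mk]
      exact ⟨0, by rw [map_zero, map_sub, hm, q₁, sub_zero, sub_self]⟩
    · rintro ⟨z, hz⟩
      obtain ⟨u, hu, rfl⟩ := mk_surjective z
      rw [mapC, mapH_mk, mk_eq_mk] at hz
      obtain ⟨y, hy⟩ := hz
      obtain ⟨y₂, rfl⟩ := hg₂ y
      rw [hD ⟨x, hx⟩ (u - ψ₂ y₂) 0 (by rw [map_sub, hu, p₁, map_zero, sub_zero])
        (by show f₂ _ = x; rw [map_sub, ← eψ₂, hy]; abel)]
      exact mk_eq_zero.2 ⟨0, map_zero _⟩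
  · intro z
    rw [hc]
    constructor
    · rintro ⟨x, k, hx, rfl, h⟩
      have hx3 : φ₃ (f₂ x) = 0 := by rw [eφ₂, h]; exact LinearMap.mem_ker.1 (hN.le ⟨k, rfl⟩)
      exact ⟨mk φ₃ ψ₃ (f₂ x) hx3, hD ⟨f₂ x, hx3⟩ x k h rfl⟩
    · rintro ⟨z, rfl⟩
      obtain ⟨x, hx, rfl⟩ := mk_surjective z
      exact ⟨m ⟨x, hx⟩, n ⟨x, hx⟩, cyc _ _ (hn _), rfl, hn _⟩

end ses

/-- Alternating sums around an exact hexagon. -/
theorem hexagon {A₁ A₂ A₃ A₄ A₅ A₆ : Type v} [AddCommGroup A₁] [Module R A₁] [AddCommGroup A₂] [Module R A₂]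
    [AddCommGroup A₃] [Module R A₃] [AddCommGroup A₄] [Module R A₄] [AddCommGroup A₅] [Module R A₅]
    [AddCommGroup A₆] [Module R A₆] (a : A₁ →ₗ[R] A₂) (b : A₂ →ₗ[R] A₃) (c : A₃ →ₗ[R] A₄) (d : A₄ →ₗ[R] A₅)
    (e : A₅ →ₗ[R] A₆) (f : A₆ →ₗ[R] A₁) (hab : Function.Exact a b) (hbc : Function.Exact b c)
    (hcd : Function.Exact c d) (hde : Function.Exact d e) (hef : Function.Exact e f) (hfa : Function.Exact f a)
    (ha : Module.length R A₁ < ⊤ ∨ Module.length R A₂ < ⊤) (hb : Module.length R A₂ < ⊤ ∨ Module.length R A₃ < ⊤)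
    (hc : Module.length R A₃ < ⊤ ∨ Module.length R A₄ < ⊤) (hd : Module.length R A₄ < ⊤ ∨ Module.length R A₅ < ⊤)
    (he : Module.length R A₅ < ⊤ ∨ Module.length R A₆ < ⊤) (hf : Module.length R A₆ < ⊤ ∨ Module.length R A₁ < ⊤) :
    (Module.length R A₁ < ⊤ ∧ Module.length R A₂ < ⊤ ∧ Module.length R A₃ < ⊤ ∧ Module.length R A₄ < ⊤ ∧
      Module.length R A₅ < ⊤ ∧ Module.length R A₆ < ⊤) ∧
    ((Module.length R A₁).toNat : ℤ) - (Module.length R A₂).toNat + (Module.length R A₃).toNat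
      - (Module.length R A₄).toNat + (Module.length R A₅).toNat - (Module.length R A₆).toNat = 0 := by
  have fin : ∀ {A B : Type v} [AddCommGroup A] [Module R A] [AddCommGroup B] [Module R B] (g : A →ₗ[R] B),
      (Module.length R A < ⊤ ∨ Module.length R B < ⊤) → ∃ k : ℕ, Module.length R (LinearMap.range g) = k := by
    intro A B _ _ _ _ g h
    have : Module.length R (LinearMap.range g) < ⊤ := h.elim (length_range_le_left g).trans_lt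
      (length_range_le_right g).trans_lt
    exact ⟨_, (ENat.coe_toNat this.ne).symm⟩
  obtain ⟨ra, era⟩ := fin a ha
  obtain ⟨rb, erb⟩ := fin b hb
  obtain ⟨rc, erc⟩ := fin c hc
  obtain ⟨rd, erd⟩ := fin d hd
  obtain ⟨re, ere⟩ := fin e he
  obtain ⟨rf, erf⟩ := fin f hf
  rw [length_eq_range_add_range f a hfa, length_eq_range_add_range a b hab, length_eq_range_add_range b c hbc,
    length_eq_range_add_range c d hcd, length_eq_range_add_range d e hde, length_eq_range_add_range e f hef,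
    era, erb, erc, erd, ere, erf]
  simp only [← Nat.cast_add, ENat.coe_lt_top, ENat.toNat_coe, and_self, true_and]
  push_cast
  ring

theorem length_perH_add {φ : M →ₗ[R] N} {ψ : N →ₗ[R] M} (h : φ ∘ₗ ψ = 0) :
    Module.length R (LinearMap.ker φ) = Module.length R (LinearMap.range ψ) + Module.length R (perH φ ψ) := by
  have hle : LinearMap.range ψ ≤ LinearMap.ker φ := LinearMap.range_le_ker_iff.2 h
  rw [Module.length_eq_add_of_exact ((LinearMap.range ψ).submoduleOf (LinearMap.ker φ)).subtype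
    (Submodule.mkQ _) (Submodule.subtype_injective _) (Submodule.mkQ_surjective _)
    (LinearMap.exact_subtype_mkQ _), (Submodule.submoduleOfEquivOfLe hle).length_eq]

theorem length_ker_add_range (φ : M →ₗ[R] N) :
    Module.length R M = Module.length R (LinearMap.ker φ) + Module.length R (LinearMap.range φ) :=
  Module.length_eq_add_of_exact (LinearMap.ker φ).subtype φ.rangeRestrict (Submodule.subtype_injective _)
    φ.surjective_rangeRestrict (by rw [LinearMap.exact_iff, LinearMap.ker_rangeRestrict, Submodule.range_subtype])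

/-- Complexes of finite length. -/
theorem finCoh_of_finite {φ : M →ₗ[R] N} {ψ : N →ₗ[R] M} (h : IsPeriodic φ ψ) (hM : Module.length R M < ⊤)
    (hN : Module.length R N < ⊤) :
    FinCoh R φ ψ ∧ herbrand R φ ψ = ((Module.length R M).toNat : ℤ) - ((Module.length R N).toNat : ℤ) := by
  have eM := length_ker_add_range φ
  have eN := length_ker_add_range ψ
  rw [length_perH_add h.1] at eM
  rw [length_perH_add h.2] at eN
  obtain ⟨a, ha⟩ := ENat.ne_top_iff_exists.1 hM.ne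
  obtain ⟨b, hb⟩ := ENat.ne_top_iff_exists.1 hN.ne
  rw [← ha] at eM
  rw [← hb] at eN
  unfold FinCoh herbrand
  rw [← ha, ← hb]
  cases h₁ : Module.length R (LinearMap.range ψ) <;> cases h₂ : Module.length R (perH φ ψ) <;>
    cases h₃ : Module.length R (LinearMap.range φ) <;> cases h₄ : Module.length R (perH ψ φ) <;>
    simp only [h₁, h₂, h₃, h₄, top_add, add_top, ENat.coe_ne_top, ENat.toNat_coe, ← Nat.cast_add,
      Nat.cast_inj] at eM eN ⊢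
  refine ⟨⟨ENat.coe_lt_top _, ENat.coe_lt_top _⟩, ?_⟩
  omega

theorem shortExact {φ₁ : M →ₗ[R] N} {ψ₁ : N →ₗ[R] M} {φ₂ : M' →ₗ[R] N'} {ψ₂ : N' →ₗ[R] M'} {φ₃ : M'' →ₗ[R] N''}
    {ψ₃ : N'' →ₗ[R] M''} (h₂ : IsPeriodic φ₂ ψ₂) {f₁ : M →ₗ[R] M'} {g₁ : N →ₗ[R] N'} {f₂ : M' →ₗ[R] M''}
    {g₂ : N' →ₗ[R] N''} (cφ₁ : φ₂ ∘ₗ f₁ = g₁ ∘ₗ φ₁) (cψ₁ : ψ₂ ∘ₗ g₁ = f₁ ∘ₗ ψ₁)
    (cφ₂ : φ₃ ∘ₗ f₂ = g₂ ∘ₗ φ₂) (cψ₂ : ψ₃ ∘ₗ g₂ = f₂ ∘ₗ ψ₂)
    (hf₁ : Function.Injective f₁) (hg₁ : Function.Injective g₁) (hf₂ : Function.Surjective f₂)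
    (hg₂ : Function.Surjective g₂) (hM : LinearMap.range f₁ = LinearMap.ker f₂)
    (hN : LinearMap.range g₁ = LinearMap.ker g₂)
    (htwo : (FinCoh R φ₁ ψ₁ ∧ FinCoh R φ₂ ψ₂) ∨ (FinCoh R φ₁ ψ₁ ∧ FinCoh R φ₃ ψ₃) ∨
      (FinCoh R φ₂ ψ₂ ∧ FinCoh R φ₃ ψ₃)) :
    FinCoh R φ₁ ψ₁ ∧ FinCoh R φ₂ ψ₂ ∧ FinCoh R φ₃ ψ₃ ∧
      herbrand R φ₂ ψ₂ = herbrand R φ₁ ψ₁ + herbrand R φ₃ ψ₃ := by
  obtain ⟨hab, δ, hbδ, hδc⟩ := half h₂ cφ₁ cψ₁ cφ₂ cψ₂ hf₁ hg₁ hf₂ hg₂ hM hN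
  obtain ⟨hab', δ', hbδ', hδc'⟩ := half (φ₁ := ψ₁) (ψ₁ := φ₁) (φ₂ := ψ₂) (ψ₂ := φ₂) ⟨h₂.2, h₂.1⟩
    cψ₁ cφ₁ cψ₂ cφ₂ hg₁ hf₁ hg₂ hf₂ hN hM
  obtain ⟨⟨i₁, i₂, i₃, j₁, j₂, j₃⟩, hs⟩ := hexagon _ _ δ _ _ δ' hab hbδ hδc hab' hbδ' hδc'
    (by rcases htwo with h | h | h <;> first | exact Or.inl h.1.1 | exact Or.inr h.1.1)
    (by rcases htwo with h | h | h <;> first | exact Or.inl h.1.1 | exact Or.inr h.2.1 | exact Or.inl h.2.1)
    (by rcases htwo with h | h | h <;> first | exact Or.inl h.2.1 | exact Or.inr h.1.2)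
    (by rcases htwo with h | h | h <;> first | exact Or.inl h.1.2 | exact Or.inr h.1.2)
    (by rcases htwo with h | h | h <;> first | exact Or.inl h.1.2 | exact Or.inr h.2.2 | exact Or.inl h.2.2)
    (by rcases htwo with h | h | h <;> first | exact Or.inl h.2.2 | exact Or.inr h.1.1)
  refine ⟨⟨i₁, j₁⟩, ⟨i₂, j₂⟩, ⟨i₃, j₃⟩, ?_⟩
  unfold herbrand
  omega

end Groth.Agent.Herbrand26
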